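import Groth.Prelude.Def_CAlgX
import Mathlib

/-!
# Formal smoothness for adic topologies and completion
-/

set_option autoImplicit false
set_option linter.style.haveILetI false

universe u

namespace Groth.Agent.AdicFSCompl

variable {S : Type u} [CommRing S] (I : Ideal S)

/-- The kernel of evaluation is the extended power of the ideal. -/
theorem mem_ker_evalₐ_iff (hI : I.FG) (n : ℕ) (x : AdicCompletion I S) :
    AdicCompletion.evalₐ I n x = 0 ↔ x ∈ (I.map (algebraMap S (AdicCompletion I S))) ^ n := by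
  have h1 : AdicCompletion.evalₐ I n x = 0 ↔ AdicCompletion.eval I S n x = 0 := by
    constructor
    · intro h
      rw [← AdicCompletion.factor_evalₐ_eq_eval I x (by simp), h, map_zero]
    · intro h
      rw [← AdicCompletion.factor_eval_eq_evalₐ I x (by simp), h, map_zero]
  rw [h1, ← LinearMap.mem_ker, ← AdicCompletion.pow_smul_top_eq_ker_eval hI, Ideal.smul_top_eq_map,
    Ideal.map_pow]
  rfl

/-- Every element is congruent to one of the base modulo a power of the extended ideal. -/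
theorem exists_sub_mem (hI : I.FG) (n : ℕ) (x : AdicCompletion I S) :
    ∃ s : S, x - algebraMap S _ s ∈ (I.map (algebraMap S (AdicCompletion I S))) ^ n := by
  obtain ⟨s, hs⟩ := Ideal.Quotient.mk_surjective (AdicCompletion.evalₐ I n x)
  exact ⟨s, (mem_ker_evalₐ_iff I hI n _).1 (by rw [map_sub, AlgHom.commutes, ← hs]; exact sub_self _)⟩

/-- Two maps killing a power of the extended ideal and agreeing on the base are equal. -/
theorem hom_ext {A : Type*} [CommRing A] (hI : I.FG) (n : ℕ) (f g : AdicCompletion I S →+* A)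
    (hf : ∀ x ∈ (I.map (algebraMap S (AdicCompletion I S))) ^ n, f x = 0)
    (hg : ∀ x ∈ (I.map (algebraMap S (AdicCompletion I S))) ^ n, g x = 0)
    (h : ∀ s, f (algebraMap S _ s) = g (algebraMap S _ s)) : f = g := by
  refine RingHom.ext fun x => ?_
  obtain ⟨s, hs⟩ := exists_sub_mem I hI n x
  have h1 := hf _ hs
  have h2 := hg _ hs
  rw [map_sub, sub_eq_zero] at h1 h2
  rw [h1, h2, h]

/-- If a map composed with a square-zero quotient kills a power, the map kills the doubled power. -/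
theorem kills_double {B A : Type*} [CommRing B] [CommRing A] {F : Type*} [FunLike F B A] [RingHomClass F B A]
    (f : F) {J : Ideal A} (hJ : J ^ 2 = ⊥) (N : Ideal B) (k : ℕ) (h : ∀ x ∈ N ^ k, f x ∈ J) :
    ∀ x ∈ N ^ (k * 2), f x = 0 := by
  intro x hx
  rw [pow_mul] at hx
  have : (N ^ k).map f ≤ J := Ideal.map_le_iff_le_comap.2 h
  have h2 : f x ∈ J ^ 2 := Ideal.pow_right_mono this 2 (Ideal.map_pow f (N ^ k) 2 ▸ Ideal.mem_map_of_mem f hx)
  rwa [hJ, Ideal.mem_bot] at h2

variable {R : Type u} [CommRing R] [Algebra R S]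

/-- Extension of a map killing a power of the ideal to the completion. -/
theorem exists_extend {A : Type u} [CommRing A] [Algebra R A] (hI : I.FG) (n : ℕ) (f : S →ₐ[R] A)
    (hf : ∀ x ∈ I ^ n, f x = 0) :
    ∃ g : AdicCompletion I S →ₐ[R] A, (∀ s, g (algebraMap S _ s) = f s) ∧
      ∀ x ∈ (I.map (algebraMap S (AdicCompletion I S))) ^ n, g x = 0 := by
  refine ⟨(Ideal.Quotient.liftₐ (I ^ n) f hf).comp ((AdicCompletion.evalₐ I n).restrictScalars R),
    fun s => ?_, fun x hx => ?_⟩
  · show Ideal.Quotient.liftₐ (I ^ n) f hf (AdicCompletion.evalₐ I n (algebraMap S _ s)) = f s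
    rw [AlgHom.commutes]
    rfl
  · show Ideal.Quotient.liftₐ (I ^ n) f hf (AdicCompletion.evalₐ I n x) = 0
    rw [(mem_ker_evalₐ_iff I hI n x).2 hx, map_zero]

theorem of_completion (hI : I.FG)
    (h : CAlgX.IsAdicFormallySmooth R (AdicCompletion I S) (I.map (algebraMap S (AdicCompletion I S)))) :
    CAlgX.IsAdicFormallySmooth R S I := by
  intro A _ _ J hJ ψ ⟨k, hk⟩
  obtain ⟨g, hg, hg'⟩ := exists_extend I hI k ψ hk
  obtain ⟨χ, hχ⟩ := h A J hJ g ⟨k, hg'⟩
  refine ⟨χ.comp (IsScalarTower.toAlgHom R S _), AlgHom.ext fun s => ?_⟩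
  rw [← hg s, ← hχ]
  rfl

theorem to_completion (hI : I.FG) (h : CAlgX.IsAdicFormallySmooth R S I) :
    CAlgX.IsAdicFormallySmooth R (AdicCompletion I S) (I.map (algebraMap S (AdicCompletion I S))) := by
  intro A _ _ J hJ ψ ⟨k, hk⟩
  have hk' : ∀ x ∈ I ^ k, ψ (algebraMap S _ x) = 0 := fun x hx =>
    hk _ (Ideal.map_pow (algebraMap S (AdicCompletion I S)) I k ▸ Ideal.mem_map_of_mem _ hx)
  obtain ⟨χ, hχ⟩ := h A J hJ (ψ.comp (IsScalarTower.toAlgHom R S _)) ⟨k, hk'⟩
  have hχk : ∀ x ∈ I ^ k, χ x ∈ J := fun x hx => by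
    rw [← Ideal.Quotient.eq_zero_iff_mem]
    exact (AlgHom.congr_fun hχ x).trans (hk' x hx)
  obtain ⟨g, hg, hg'⟩ := exists_extend I hI (k * 2) χ (kills_double χ hJ I k hχk)
  refine ⟨g, AlgHom.coe_ringHom_injective ?_⟩
  refine hom_ext I hI (k * 2) _ _ (fun x hx => ?_)
    (fun x hx => hk x (Ideal.pow_le_pow_right (by omega) hx)) fun s => ?_
  · show Ideal.Quotient.mk J (g x) = 0
    rw [hg' x hx, map_zero]
  · show Ideal.Quotient.mk J (g (algebraMap S _ s)) = _
    rw [hg s]
    exact AlgHom.congr_fun hχ s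

/-- Discreteness of the base may be traded for its completion. -/
theorem change_base (𝔪 : Ideal R) (h𝔪 : 𝔪.FG) (hI : I.FG) (c : ℕ) (hc : (𝔪 ^ c).map (algebraMap R S) ≤ I)
    [Algebra (AdicCompletion 𝔪 R) (AdicCompletion I S)]
    [IsScalarTower R (AdicCompletion 𝔪 R) (AdicCompletion I S)] :
    CAlgX.IsAdicFormallySmooth R (AdicCompletion I S) (I.map (algebraMap S (AdicCompletion I S))) ↔
      CAlgX.IsAdicFormallySmooth (AdicCompletion 𝔪 R) (AdicCompletion I S)
        (I.map (algebraMap S (AdicCompletion I S))) := by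
  set N := I.map (algebraMap S (AdicCompletion I S))
  set M := 𝔪.map (algebraMap R (AdicCompletion 𝔪 R))
  have hMN : ∀ x ∈ M ^ c, algebraMap (AdicCompletion 𝔪 R) (AdicCompletion I S) x ∈ N := by
    intro x hx
    rw [← Ideal.map_pow] at hx
    refine (Ideal.map_le_iff_le_comap.2 ?_ : (M ^ c).map (algebraMap (AdicCompletion 𝔪 R) (AdicCompletion I S)) ≤ N) ?_
    · rw [← Ideal.map_pow, Ideal.map_le_iff_le_comap]
      intro a ha
      show algebraMap _ (AdicCompletion I S) (algebraMap R _ a) ∈ N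
      rw [← IsScalarTower.algebraMap_apply, IsScalarTower.algebraMap_apply R S (AdicCompletion I S)]
      exact Ideal.mem_map_of_mem _ (hc (Ideal.mem_map_of_mem _ ha))
    · exact Ideal.mem_map_of_mem _ (by rwa [← Ideal.map_pow])
  constructor
  · intro h A _ _ J hJ ψ ⟨k, hk⟩
    letI : Algebra R A := ((algebraMap (AdicCompletion 𝔪 R) A).comp (algebraMap R (AdicCompletion 𝔪 R))).toAlgebra
    haveI : IsScalarTower R (AdicCompletion 𝔪 R) A := IsScalarTower.of_algebraMap_eq fun _ => rfl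
    obtain ⟨χ, hχ⟩ := h A J hJ (ψ.restrictScalars R) ⟨k, hk⟩
    have hmod : ∀ x, Ideal.Quotient.mk J (χ x) = ψ x := fun x => AlgHom.congr_fun hχ x
    have h1 : ∀ x ∈ M ^ (c * k), algebraMap (AdicCompletion 𝔪 R) A x ∈ J := fun x hx => by
      have : algebraMap (AdicCompletion 𝔪 R) (AdicCompletion I S) x ∈ N ^ k := by
        rw [pow_mul] at hx
        have hle : (M ^ c).map (algebraMap (AdicCompletion 𝔪 R) (AdicCompletion I S)) ≤ N :=
          Ideal.map_le_iff_le_comap.2 hMN
        exact Ideal.pow_right_mono hle k (Ideal.map_pow (algebraMap (AdicCompletion 𝔪 R) (AdicCompletion I S)) (M ^ c) k ▸ Ideal.mem_map_of_mem _ hx)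
      rw [← Ideal.Quotient.eq_zero_iff_mem, Ideal.Quotient.mk_algebraMap, ← ψ.commutes x]
      exact hk _ this
    have h2 : ∀ x ∈ M ^ (c * k), (χ.toRingHom.comp (algebraMap _ (AdicCompletion I S))) x ∈ J := fun x hx => by
      rw [← Ideal.Quotient.eq_zero_iff_mem]
      show Ideal.Quotient.mk J (χ _) = 0
      rw [hmod, AlgHom.commutes, ← Ideal.Quotient.mk_algebraMap]
      exact Ideal.Quotient.eq_zero_iff_mem.2 (h1 x hx)
    have heq : χ.toRingHom.comp (algebraMap _ (AdicCompletion I S)) = algebraMap (AdicCompletion 𝔪 R) A := by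
      let φ₂ : AdicCompletion 𝔪 R →+* A := χ.toRingHom.comp (algebraMap _ (AdicCompletion I S))
      have k2 : ∀ x ∈ M ^ (c * k * 2), φ₂ x = 0 := kills_double φ₂ hJ M (c * k) h2
      have k1 : ∀ x ∈ M ^ (c * k * 2), algebraMap (AdicCompletion 𝔪 R) A x = 0 :=
        kills_double (algebraMap (AdicCompletion 𝔪 R) A) hJ M (c * k) h1
      refine hom_ext 𝔪 h𝔪 (c * k * 2) _ _ k2 k1 fun a => ?_
      show χ (algebraMap _ (AdicCompletion I S) (algebraMap R _ a)) = _
      rw [← IsScalarTower.algebraMap_apply, AlgHom.commutes]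
      rfl
    exact ⟨{ χ with commutes' := fun x => RingHom.congr_fun heq x }, AlgHom.ext hmod⟩
  · intro h A _ _ J hJ ψ ⟨k, hk⟩
    have hkills : ∀ a ∈ 𝔪 ^ (c * k), algebraMap R A a ∈ J := fun a ha => by
      rw [← Ideal.Quotient.eq_zero_iff_mem, Ideal.Quotient.mk_algebraMap, ← ψ.commutes a]
      refine hk _ ?_
      rw [IsScalarTower.algebraMap_apply R S (AdicCompletion I S), ← Ideal.map_pow]
      refine Ideal.mem_map_of_mem _ ?_
      rw [pow_mul] at ha
      exact Ideal.pow_right_mono hc k (Ideal.map_pow (algebraMap R S) (𝔪 ^ c) k ▸ Ideal.mem_map_of_mem _ ha)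
    obtain ⟨g, hg, hg'⟩ := exists_extend (R := R) 𝔪 h𝔪 (c * k * 2) (Algebra.ofId R A)
      (kills_double (Algebra.ofId R A) hJ 𝔪 (c * k) hkills)
    letI : Algebra (AdicCompletion 𝔪 R) A := g.toRingHom.toAlgebra
    haveI : IsScalarTower R (AdicCompletion 𝔪 R) A := IsScalarTower.of_algebraMap_eq fun a => (hg a).symm
    have h3 : (Ideal.Quotient.mk J).comp g.toRingHom =
        ψ.toRingHom.comp (algebraMap (AdicCompletion 𝔪 R) (AdicCompletion I S)) := by
      refine hom_ext 𝔪 h𝔪 (c * k * 2) _ _ (fun x hx => ?_) (fun x hx => ?_) fun a => ?_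
      · show Ideal.Quotient.mk J (g x) = 0
        rw [hg' x hx, map_zero]
      · show ψ _ = 0
        refine hk _ (Ideal.pow_le_pow_right (by omega : k ≤ k * 2) ?_)
        rw [mul_assoc, pow_mul] at hx
        have hle : (M ^ c).map (algebraMap (AdicCompletion 𝔪 R) (AdicCompletion I S)) ≤ N :=
          Ideal.map_le_iff_le_comap.2 hMN
        exact Ideal.pow_right_mono hle _ (Ideal.map_pow (algebraMap (AdicCompletion 𝔪 R) (AdicCompletion I S)) (M ^ c) _ ▸ Ideal.mem_map_of_mem _ hx)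
      · show Ideal.Quotient.mk J (g _) = ψ (algebraMap _ (AdicCompletion I S) (algebraMap R _ a))
        rw [← IsScalarTower.algebraMap_apply R (AdicCompletion 𝔪 R) (AdicCompletion I S), AlgHom.commutes]
        exact (Ideal.Quotient.mk_algebraMap _ _ _).trans (ψ.commutes a).symm
    obtain ⟨χ, hχ⟩ := h A J hJ { ψ with commutes' := fun x => (RingHom.congr_fun h3 x).symm } ⟨k, hk⟩
    exact ⟨χ.restrictScalars R, AlgHom.ext fun x => AlgHom.congr_fun hχ x⟩

end Groth.Agent.AdicFSCompl
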